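import Cfsg.Agent.H379.GLB.Dvd
import Cfsg.Agent.H666.Clif.Tower

/-!
# S4536, piece P5: many Brauer characters stay irreducible (helper166)

`le_card_irred`: integral combinations `g s`, `s < r`, of Harish-Chandra restrictions of members of a union of blocks `B`,
linearly independent modulo `p` in the lattice of Brauer characters of `L`: at least `r` members of `IBr(B)` stay irreducible
on `N`.
-/

set_option autoImplicit false

open Cfsg IsLocalRing Module
open Cfsg.Agent.H657

namespace Cfsg.Agent.H166.GLB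

open Cfsg.Agent.H577.GLB (cj IsRes hcRes)
open Cfsg.Agent.H608.BlockRank (IsUnion)

universe u

/-- fewer than `r` equations modulo `p` in `r` unknowns -/
theorem exists_kernel {p : ℕ} (hp : p.Prime) {r : ℕ} {ι : Type*} [Fintype ι] (h : Fintype.card ι < r)
    (A : Fin r → ι → ℤ) : ∃ c : Fin r → ℤ, (¬ ∀ s, (p : ℤ) ∣ c s) ∧ ∀ i, (p : ℤ) ∣ ∑ s, c s * A s i := by
  classical
  have := Fact.mk hp
  let f : (Fin r → ZMod p) →ₗ[ZMod p] (ι → ZMod p) :=
    { toFun := fun c i => ∑ s, c s * (A s i : ZMod p)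
      map_add' := fun c d => by
        funext i
        simp only [Pi.add_apply, add_mul, Finset.sum_add_distrib]
      map_smul' := fun a c => by
        funext i
        simp only [Pi.smul_apply, smul_eq_mul, RingHom.id_apply, Finset.mul_sum, mul_assoc] }
  have hk : LinearMap.ker f ≠ ⊥ := by
    apply LinearMap.ker_ne_bot_of_finrank_lt
    rw [Module.finrank_fintype_fun_eq_card, Module.finrank_fintype_fun_eq_card, Fintype.card_fin]
    exact h
  obtain ⟨c, hc, hc0⟩ := (Submodule.ne_bot_iff _).1 hk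
  refine ⟨fun s => ((c s).val : ℤ), ?_, ?_⟩
  · intro hd
    apply hc0
    funext s
    have h1 := (ZMod.intCast_zmod_eq_zero_iff_dvd _ _).2 (hd s)
    rw [Int.cast_natCast, ZMod.natCast_zmod_val] at h1
    exact h1
  · intro i
    rw [← ZMod.intCast_zmod_eq_zero_iff_dvd]
    push_cast
    simp only [ZMod.natCast_val, ZMod.cast_id', id]
    exact congrFun (LinearMap.mem_ker.1 hc) i

variable {V : ValuationSubring ℂ} {p : ℕ} {𝔐 : Ideal AlgInt} {G : Type u} [Group G] [Finite G]

/-- decomposition numbers -/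
theorem exists_decomp_nat (hM : IsPModular p 𝔐) (hV : Above 𝔐 V) [Fintype (IBr V G)] (χ : IrrCharacter G) :
    ∃ d : IBr V G → ℕ, (∀ i, d i ≠ 0 → Under i (χ : G → ℂ)) ∧
      ∀ g, IsPRegular p g → (χ : G → ℂ) g = ∑ i, (d i : ℂ) * phi p i g := by
  classical
  obtain ⟨m, idx, h1, h2⟩ := exists_decomp hM hV χ.2
  refine ⟨fun i => (Finset.univ.filter fun l => idx l = i).card, ?_, ?_⟩
  · intro i hi
    obtain ⟨l, hl⟩ := Finset.card_ne_zero.1 hi
    rw [← (Finset.mem_filter.1 hl).2]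
    exact h1 l
  · intro g hg
    rw [h2 g hg, H379.GLB.sum_idx]

/-- P5. `g s` : functions on `L` which are integral combinations of Harish-Chandra restrictions of members of `B`, linearly
independent mod `p` in the lattice of Brauer characters.  Then at least `r` members of `IBr(B)` stay irreducible on `N`. -/
theorem le_card_irred (hM : IsPModular p 𝔐) (hV : Above 𝔐 V) (N : Subgroup G) [N.Normal] (hc : IsCyclic (G ⧸ N))
    {a : ℕ} (hi : Nat.card (G ⧸ N) = p ^ a) (L U : Subgroup G) (hU : (Nat.card U).Coprime p)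
    (hLU : ∀ l ∈ L, ∀ u ∈ U, l * u * l⁻¹ ∈ U) (hd : Disjoint L U) (hUN : U ≤ N) (hLN : L ⊔ N = ⊤)
    {B : Set (IrrCharacter G)} (hB : IsUnion 𝔐 B) (O : IBr V G → Finset (IBr V N))
    (hO : ∀ i ∈ ibrUnder V B, IsRes p N i (O i)) (C : Set (IBr V L))
    (hC : ∀ j ∈ C, ∃ j' : IBr V (N.subgroupOf L), IsRes p (N.subgroupOf L) j {j'})
    (hBC : ∀ i ∈ ibrUnder V B, ∀ m : IBr V L → ℕ,
      (∀ x : L, IsPRegular p x → hcRes L U (phi p i) x = ∑ᶠ j, (m j : ℂ) * phi p j x) → ∀ j, m j ≠ 0 → j ∈ C)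
    {r : ℕ} (g : Fin r → L → ℂ)
    (hg : ∀ s, ∃ n : IrrCharacter G → ℤ, (∀ χ, χ ∉ B → n χ = 0) ∧
      ∀ x : L, IsPRegular p x → g s x = ∑ᶠ χ, (n χ : ℂ) * hcRes L U (χ : G → ℂ) x)
    (hpure : ∀ (c : Fin r → ℤ) (h : IBr V L → ℤ), (∀ x : L, IsPRegular p x →
      ∑ s, (c s : ℂ) * g s x = (p : ℂ) * ∑ᶠ j, (h j : ℂ) * phi p j x) → ∀ s, (p : ℤ) ∣ c s) :
    r ≤ Nat.card {i : IBr V G // i ∈ ibrUnder V B ∧ (O i).card = 1} := by
  classical
  have hp := hM.1
  have := Fintype.ofFinite (IBr V G)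
  have := Fintype.ofFinite (IBr V L)
  have := Fintype.ofFinite U
  have := Characters.Core.finite_irr (G := G)
  have := Fintype.ofFinite (IrrCharacter G)
  have hU0 : (Nat.card U : ℂ) ≠ 0 := Nat.cast_ne_zero.2 Nat.card_pos.ne'
  choose d hd1 hd2 using fun χ : IrrCharacter G => exists_decomp_nat hM hV χ
  choose m hm using fun i : IBr V G => H379.GLB.hcRes_phi hM hV L U hU hLU hd i
  choose n hn1 hn2 using hg
  -- the Harish-Chandra restriction of an ordinary character
  have hχ : ∀ (χ : IrrCharacter G) (x : L), IsPRegular p x →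
      hcRes L U (χ : G → ℂ) x = ∑ i, (d χ i : ℂ) * ∑ j, (m i j : ℂ) * phi p j x := by
    intro χ x hx
    have hxG : IsPRegular p (x : G) := by
      unfold IsPRegular at hx ⊢
      rwa [Subgroup.orderOf_coe]
    have h1 : ∀ i, ∑ j, (m i j : ℂ) * phi p j x = hcRes L U (phi p i) x := by
      intro i
      rw [hm i x hx, finsum_eq_sum_of_fintype]
    rw [Finset.sum_congr rfl fun i _ => by rw [h1 i]]
    unfold hcRes
    rw [finsum_eq_sum_of_fintype, Finset.sum_congr rfl fun u _ =>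
      hd2 χ _ (H379.GLB.isPRegular_mul hp hU (hLU x x.2) hxG u.2), Finset.sum_comm, Finset.sum_div]
    refine Finset.sum_congr rfl fun i _ => ?_
    rw [finsum_eq_sum_of_fintype, ← Finset.mul_sum, mul_div_assoc]
  -- the coefficients of `g s`
  let N' : Fin r → IBr V G → ℤ := fun s i => ∑ χ, n s χ * (d χ i : ℤ)
  have hN0 : ∀ s i, i ∉ ibrUnder V B → N' s i = 0 := by
    intro s i hi
    refine Finset.sum_eq_zero fun χ _ => ?_
    by_cases h1 : χ ∈ B
    · have h2 : d χ i = 0 := by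
        by_contra h3
        exact hi ⟨χ, h1, hd1 χ i h3⟩
      rw [h2, Nat.cast_zero, mul_zero]
    · rw [hn1 s χ h1, zero_mul]
  have hgs : ∀ s (x : L), IsPRegular p x → g s x = ∑ i, (N' s i : ℂ) * ∑ j, (m i j : ℂ) * phi p j x := by
    intro s x hx
    rw [hn2 s x hx, finsum_eq_sum_of_fintype]
    rw [Finset.sum_congr rfl fun χ _ => by rw [hχ χ x hx, Finset.mul_sum]]
    rw [Finset.sum_comm]
    refine Finset.sum_congr rfl fun i _ => ?_
    show _ = ((∑ χ, n s χ * (d χ i : ℤ) : ℤ) : ℂ) * _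
    push_cast
    rw [Finset.sum_mul]
    exact Finset.sum_congr rfl fun χ _ => by ring
  -- the multiplicities for reducible restrictions
  have hdiv : ∀ i ∈ ibrUnder V B, (O i).card ≠ 1 → ∀ j, p ∣ m i j := by
    intro i hiB h1 j
    have h2 : (O i).card ∣ m i j := H379.GLB.dvd_mult hM hV N hc hi L U hU hLU hd hUN hLN i (O i) (hO i hiB) (m i)
      (hm i) (fun j hj => hC j (hBC i hiB (m i) (hm i) j hj)) j
    have h3 := H666.Clif.card_dvd_index hM hV N hc (hO i hiB)
    have h4 : N.index = p ^ a := hi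
    rw [h4] at h3
    obtain ⟨k, -, hk⟩ := (Nat.dvd_prime_pow hp).1 h3
    have hk0 : k ≠ 0 := by
      rintro rfl
      exact h1 (by rw [hk, pow_zero])
    exact (dvd_pow_self p hk0).trans (hk ▸ h2)
  by_contra hlt
  rw [not_le] at hlt
  set I := {i : IBr V G // i ∈ ibrUnder V B ∧ (O i).card = 1} with hI
  have := Fintype.ofFinite I
  rw [Nat.card_eq_fintype_card] at hlt
  obtain ⟨c, hc0, hc1⟩ := exists_kernel hp hlt (fun s i => N' s i)
  apply hc0
  have hdvd : ∀ j, (p : ℤ) ∣ ∑ i, (∑ s, c s * N' s i) * (m i j : ℤ) := by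
    intro j
    refine Finset.dvd_sum fun i _ => ?_
    by_cases h1 : i ∈ ibrUnder V B
    · by_cases h2 : (O i).card = 1
      · exact (hc1 ⟨i, h1, h2⟩).mul_right _
      · exact (Int.natCast_dvd_natCast.2 (hdiv i h1 h2 j)).mul_left _
    · rw [Finset.sum_eq_zero fun s _ => by rw [hN0 s i h1, mul_zero], zero_mul]
      exact dvd_zero _
  choose h hh using hdvd
  refine hpure c h fun x hx => ?_
  rw [finsum_eq_sum_of_fintype, Finset.mul_sum]
  have h1 : ∀ j, (p : ℂ) * ((h j : ℂ) * phi p j x) =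
      ∑ i, (∑ s, (c s : ℂ) * (N' s i : ℂ)) * ((m i j : ℂ) * phi p j x) := by
    intro j
    have h2 := congrArg (fun z : ℤ => (z : ℂ)) (hh j)
    push_cast at h2
    rw [← mul_assoc, ← h2, Finset.sum_mul]
    exact Finset.sum_congr rfl fun i _ => by ring
  rw [Finset.sum_congr rfl fun j _ => h1 j, Finset.sum_comm]
  rw [Finset.sum_congr rfl fun s _ => by rw [hgs s x hx, Finset.mul_sum], Finset.sum_comm]
  refine Finset.sum_congr rfl fun i _ => ?_
  rw [← Finset.mul_sum, Finset.sum_mul]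
  exact Finset.sum_congr rfl fun s _ => by ring

end Cfsg.Agent.H166.GLB
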